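import Cfsg.Agent.Z3.Basic

set_option autoImplicit false

namespace Cfsg.Agent.Z3

open Cfsg Cfsg.Agent.H49 Subgroup
open Cfsg.Agent.NO6 (pr2 pr3 V4)

universe u

variable {G : Type u} [Group G] [Finite G]

theorem four_lift {H : Type*} [Group H] [Finite H] (f : G →* H) {π : Set ℕ} {g : G}
    (h : IsPiElt π (f g)) : ∃ y ∈ zpowers g, IsPiElt π y ∧ f y = f g := by
  obtain ⟨y, hy, z, hz, e1, h1, h2⟩ := exists_pi_decomp π g
  have z1 : f z = 1 := by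
    refine IsPiElt.eq_one (π := π) ?_ (IsPiNat.of_dvd h2 (orderOf_map_dvd f _))
    obtain ⟨k, rfl⟩ := hz
    rw [map_zpow]
    exact (isPi_zpowers.2 h).elt (zpow_mem (mem_zpowers _) k)
  exact ⟨y, hy, h1, by conv_rhs => rw [e1, map_mul, z1, mul_one]⟩

theorem four_a : ∀ v : Equiv.Perm (Fin 4), (v * v = 1 ∧ Equiv.Perm.sign v = 1) →
    (v⁻¹ * Equiv.swap 0 1) ^ 4 = 1 ∧ (v⁻¹ * Equiv.swap 1 2) ^ 4 = 1 := by decide +kernel

theorem four_b : ∀ v w : Equiv.Perm (Fin 4), (v * v = 1 ∧ Equiv.Perm.sign v = 1) →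
    (w * w = 1 ∧ Equiv.Perm.sign w = 1) →
    (v⁻¹ * Equiv.swap 0 1 * (w⁻¹ * Equiv.swap 1 2)) ^ 3 = 1 ∧
      v⁻¹ * Equiv.swap 0 1 * (w⁻¹ * Equiv.swap 1 2) * (v⁻¹ * Equiv.swap 0 1 * (w⁻¹ * Equiv.swap 1 2))
        ≠ 1 := by decide +kernel

theorem four_c : ∀ k : Equiv.Perm (Fin 4),
    (Equiv.swap 0 1 * Equiv.swap 2 3) * k = k * (Equiv.swap 0 1 * Equiv.swap 2 3) →
    (Equiv.swap 0 2 * Equiv.swap 1 3) * k = k * (Equiv.swap 0 2 * Equiv.swap 1 3) →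
    (k * k = 1 ∧ Equiv.Perm.sign k = 1) := by decide +kernel

/-- the local argument -/
theorem four_loc {U : Subgroup G} (hU : IsPi {2} U) {D : Subgroup G}
    (hD : IsSylowOf 2 D (U ⊔ 𝒞(U))) (hn : Nil3 𝒩(D)) {a b c : G} (ha : a ∈ 𝒩(U)) (hb : b ∈ 𝒩(U))
    (ha2 : IsPiElt {2} a) (hb2 : IsPiElt {2} b) (hc : c ∈ zpowers (a * b)) (hc3 : IsPiElt {3} c) :
    c ∈ U ⊔ 𝒞(U) := by
  set W := U ⊔ 𝒞(U) with hW
  have hWN : W ≤ 𝒩(U) := sup_le le_normalizer (cent_le_norm _)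
  have hNW : 𝒩(U) ≤ 𝒩(W) := norm_sup le_rfl (norm_cent le_rfl)
  have hfr := frattini_arg hWN hNW hD
  set M := 𝒩(U) ⊓ 𝒩(D) with hM
  have hM3 : Nil3 M := hn.mono inf_le_right
  set O := piCoreOf {3}ᶜ M with hO
  have hON : O ≤ 𝒩(U) := (piCoreOf_le _ _).trans inf_le_left
  have hYN : W ⊔ O ≤ 𝒩(U) := sup_le hWN hON
  have hNY : 𝒩(U) ≤ 𝒩(W ⊔ O) := by
    rw [← hfr.sup_eq]
    exact sup_le (norm_of_le le_sup_left)
      (norm_sup (inf_le_left.trans hNW) (le_norm_piCoreOf _ _))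
  have hp : IsProd M (W ⊔ O) 𝒩(U) := by
    refine ⟨inf_le_left, hYN, fun g hg => ?_⟩
    obtain ⟨m, hm, w, hw, e⟩ := hfr.symm.2.2 g hg
    exact ⟨m, hm, w, mem_sup_left hw, e⟩
  have i1 : IsPiNat {3}ᶜᶜ ((W ⊔ O).relIndex 𝒩(U)) := by
    rw [← hp.relIndex_eq]
    exact H49.Cfsg.IsPiHallOf.index_of_le hM3 le_sup_right
  have two : ∀ g ∈ 𝒩(U), IsPiElt {2} g → g ∈ W ⊔ O := fun g hg h2 =>
    zpowers_le.1 ((isPi_zpowers.2 (IsPiNat.mono h2 (ρ := {3}ᶜ) (by simp))).le_of_relIndex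
      (i1.of_dvd (relIndex_dvd_of_norm hNY (zpowers_le.2 hg))))
  have hcY : c ∈ W ⊔ O := zpowers_le.2 (mul_mem (two a ha ha2) (two b hb hb2)) hc
  have i2 : IsPiNat {3}ᶜ (W.relIndex (W ⊔ O)) := by
    rw [sup_comm, relIndex_sup_of_norm (Or.inl (hON.trans hNW))]
    exact (piCoreOf_pi _ _).relIndex W
  exact zpowers_le.1 ((isPi_zpowers.2 hc3).le_of_relIndex
    (i2.of_dvd (relIndex_dvd_of_norm (hYN.trans hNW) (zpowers_le.2 hcY))))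

theorem exists_D (h4 : Involves (Equiv.Perm (Fin 4)) G) : ∃ D : Subgroup G, IsPGroup 2 D ∧ D ≠ ⊥ ∧
    ¬ Nil3 𝒩(D) ∧ ∀ R : Subgroup G, IsPGroup 2 R → R ≤ 𝒞(D) → R ≤ D := by
  obtain ⟨K, R0, hn, ⟨e⟩⟩ := h4
  let f : K →* Equiv.Perm (Fin 4) := e.toMonoidHom.comp (QuotientGroup.mk' _)
  have hf : Function.Surjective f := e.surjective.comp (QuotientGroup.mk'_surjective _)
  clear_value f
  obtain ⟨U0, hU0⟩ := exists_sylowOf 2 (V4.comap f)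
  have hfr := frattini_arg le_top (normal_iff_top_le_norm.1 inferInstance) hU0
  rw [top_inf_eq] at hfr
  have hV : U0.map f = V4 := by
    have k := hU0.map f
    rw [map_comap_eq_self_of_surjective hf] at k
    exact k.eq_self (isPi_of_elt fun x hx => pi2_of_sq hx.1)
  have lift : ∀ s : Equiv.Perm (Fin 4), (∀ v ∈ V4, (v⁻¹ * s) ^ 4 = 1) →
      ∃ a ∈ 𝒩(U0), IsPiElt {2} a ∧ ∃ v ∈ V4, f a = v⁻¹ * s := by
    intro s hs
    obtain ⟨g, hg⟩ := hf s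
    obtain ⟨v, hv, m, hm, rfl⟩ := hfr.2.2 g trivial
    have e1 : f m = (f v)⁻¹ * s := by rw [← hg, map_mul, inv_mul_cancel_left]
    obtain ⟨y, hy, y2, hfy⟩ := four_lift f (π := {2}) (g := m) (IsPiNat.of_dvd
      (isPiNat_singleton_pow pr2 2) (orderOf_dvd_of_pow_eq_one (by rw [e1]; exact hs _ hv)))
    exact ⟨y, zpowers_le.2 hm hy, y2, f v, hv, hfy.trans e1⟩
  obtain ⟨a, ha, a2, v, hv, hfa⟩ := lift _ fun v hv => (four_a v hv).1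
  obtain ⟨b, hb, b2, w, hw, hfb⟩ := lift _ fun v hv => (four_a v hv).2
  obtain ⟨k3, k1⟩ := four_b v w hv hw
  rw [← hfa, ← hfb, ← map_mul] at k3 k1
  obtain ⟨c, hc, c3, hfc⟩ := four_lift f (π := {3}) (g := a * b) (IsPiNat.of_dvd
    ((isPiNat_prime pr3).2 rfl) (orderOf_dvd_of_pow_eq_one k3))
  set U := U0.map K.subtype with hU
  have hU2 : IsPi {2} U := hU0.pi.map _
  obtain ⟨D, hD, hUD⟩ := exists_sylowOf_ge hU2 (le_sup_left : U ≤ U ⊔ 𝒞(U))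
  obtain ⟨u1, hu1, e1⟩ : Equiv.swap 0 1 * Equiv.swap 2 3 ∈ U0.map f := by
    rw [hV]; exact ⟨by decide, by decide⟩
  obtain ⟨u2, hu2, e2⟩ : Equiv.swap 0 2 * Equiv.swap 1 3 ∈ U0.map f := by
    rw [hV]; exact ⟨by decide, by decide⟩
  refine ⟨D, hD.pi.isPGroup pr2, ne_bot_mono hUD (ne_bot_iff_exists.2 ⟨u1, ⟨u1, hu1, rfl⟩, fun k => ?_⟩),
    fun h3 => ?_, fun R hR hRc => hD.le_of_norm ((hRc.trans (cent_anti hUD)).trans le_sup_right)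
      (isPi_of_isPGroup pr2 hR) (Or.inl (norm_of_cent hRc))⟩
  · rw [show u1 = 1 from Subtype.ext k, map_one] at e1
    exact absurd e1 (by decide)
  have hcW := four_loc hU2 hD h3 (a := a) (b := b) (c := c) (le_normalizer_map _ ⟨a, ha, rfl⟩)
    (le_normalizer_map _ ⟨b, hb, rfl⟩) (by rwa [IsPiElt, orderOf_coe]) (by rwa [IsPiElt, orderOf_coe])
    (by
      obtain ⟨k, rfl⟩ := hc
      exact ⟨k, rfl⟩) (by rwa [IsPiElt, orderOf_coe])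
  obtain ⟨_, ⟨u, hu, rfl⟩, k, hk, e3⟩ := (mem_sup_of_norm_left (cent_le_norm U)).1 hcW
  have e4 : ((u⁻¹ * c : K) : G) = k := by
    rw [Subgroup.coe_mul, e3, Subgroup.coe_inv, coe_subtype, inv_mul_cancel_left]
  have cm : ∀ x ∈ U0, f x * f (u⁻¹ * c) = f (u⁻¹ * c) * f x := fun x hx => by
    rw [← map_mul, ← map_mul]
    congr 1
    exact Subtype.ext (by
      rw [Subgroup.coe_mul, Subgroup.coe_mul _ (u⁻¹ * c), e4]
      exact hk x ⟨x, hx, rfl⟩)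
  have k4 : f (u⁻¹ * c) ∈ V4 := four_c _ (e1 ▸ cm u1 hu1) (e2 ▸ cm u2 hu2)
  have k5 : f u * f (u⁻¹ * c) ∈ V4 := mul_mem (hV ▸ ⟨u, hu, rfl⟩) k4
  rw [← map_mul, mul_inv_cancel_left, hfc] at k5
  exact k1 k5.1

end Cfsg.Agent.Z3
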