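import Cfsg.Agent.Z3.Basic
import Cfsg.Agent.S2998

set_option autoImplicit false

namespace Cfsg.Agent.Z3

open Cfsg Cfsg.Agent.H49 Subgroup

universe u

/-- the statement for one group -/
def RedSt (G : Type u) [Group G] : Prop := ∀ (P : Sylow 3 G) (x : G), x ∈ (P : Subgroup G) →
  (∀ R : Subgroup G, R ≤ (P : Subgroup G) → R ≠ ⊥ → 𝒩(R) ≤ 𝒞[x]) → InZStar 3 x

variable {G : Type u} [Group G] [Finite G]

theorem red_quot (P : Sylow 3 G) (x : G) (hxP : x ∈ (P : Subgroup G))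
    (hlc : ∀ R : Subgroup G, R ≤ (P : Subgroup G) → R ≠ ⊥ → 𝒩(R) ≤ 𝒞[x]) (N : Subgroup G)
    [N.Normal] (ih : RedSt (G ⧸ N)) : InZStar 3 (QuotientGroup.mk x : G ⧸ N) := by
  have := Fact.mk NO6.pr3
  refine ih (P.mapSurjective (QuotientGroup.mk'_surjective N)) _ ?_ fun R hR => ?_
  · rw [Sylow.coe_mapSurjective]
    exact ⟨x, hxP, rfl⟩
  · rw [Sylow.coe_mapSurjective] at hR
    exact (S2998.result P x hxP hlc).2.2 N R hR

theorem card_quot_lt (N : Subgroup G) [N.Normal] (h : N ≠ ⊥) : Nat.card (G ⧸ N) < Nat.card G := by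
  rw [card_eq_card_quotient_mul_card_subgroup N]
  have h1 : 1 < Nat.card N := (one_lt_card_iff_ne_bot N).2 h
  have h2 : 0 < Nat.card (G ⧸ N) := Nat.card_pos
  nlinarith

theorem red_step (core : ∀ (X : Type u) [Group X] [Finite X] (y : X), ¬ Cfg y)
    (ih : ∀ (H : Type u) [Group H] [Finite H], Nat.card H < Nat.card G → RedSt H) : RedSt G := by
  intro P x hxP hlc
  have := Fact.mk NO6.pr3
  by_cases hO : pPrimeCore 3 G = ⊥
  swap
  · intro g
    have k := red_quot P x hxP hlc (pPrimeCore 3 G) (ih _ (card_quot_lt _ hO)) g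
    rw [H44.pPrimeCore_quotient_pPrimeCore] at k
    exact (QuotientGroup.eq_one_iff _).1 k
  by_cases x1 : x = 1
  · intro g
    simp [x1]
  have hP := sylowOf_top NO6.pr3 P
  have hd : 3 ∣ orderOf x := by
    have := (isPi_zpowers.2 (hP.pi.elt hxP)).dvd_card (by simpa using x1)
    rwa [Nat.card_zpowers] at this
  obtain ⟨y, hy3, hyx⟩ : ∃ y, orderOf y = 3 ∧ y ∈ zpowers x :=
    ⟨_, orderOf_pow_orderOf_div (orderOf_pos x).ne' hd, npow_mem_zpowers _ _⟩
  have hyP : y ∈ (P : Subgroup G) := zpowers_le.2 hxP hyx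
  have y1 : y ≠ 1 := fun e => by simp [e] at hy3
  have hc : 𝒞[x] ≤ 𝒞[y] := (cent_zpowers x).ge.trans (cent_le_cent1 hyx)
  have hly : ∀ R : Subgroup G, R ≤ (P : Subgroup G) → R ≠ ⊥ → 𝒩(R) ≤ 𝒞[y] :=
    fun R h1 h2 => (hlc R h1 h2).trans hc
  obtain ⟨s1, s2, -⟩ := S2998.result P y hyP hly
  have hPy : IsSylowOf 3 (P : Subgroup G) 𝒞[y] := hP.sub s1 le_top
  by_cases hz : InZStar 3 y
  · intro g
    have h1 : g ∈ 𝒞[y] := by
      have := hz g
      rw [hO, mem_bot, mul_inv_eq_one, mul_inv_eq_iff_eq_mul] at this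
      exact mem_cent1.2 this
    have h2 := hlc (zpowers y) (zpowers_le.2 hyP) (by simpa using y1)
      (cent_le_norm _ ((cent_zpowers y).ge h1))
    rw [mem_cent1.1 h2]
    simp
  have lc : ∀ R : Subgroup G, IsPGroup 3 R → R ≠ ⊥ → R ≤ 𝒞[y] → 𝒩(R) ≤ 𝒞[y] := by
    intro R hR h0 hRy
    obtain ⟨c, hc, hle⟩ := sylowOf_subJ hPy hRy (isPi_of_isPGroup NO6.pr3 hR)
    have k := hly _ hle (fun e => h0 (cj_injective c (by rw [e]; exact (Subgroup.map_bot _).symm)))
    rw [← cj_normalizer] at k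
    exact (cj_le_iff_of_mem hc).1 k
  have iso : IsIsolated y := by
    intro g hg
    have h3 : orderOf (g * y * g⁻¹) = 3 := by
      rw [← hy3]
      exact (MulAut.conj g).orderOf_eq y
    obtain ⟨c, hc, hle⟩ := sylowOf_subJ hPy (zpowers_le.2 (mem_cent1.2 hg.eq.symm)) (pi3_zpowers h3)
    have k := s2 (c * g) (by
      have := hle (conj_mem_cj.2 (mem_zpowers (g * y * g⁻¹)))
      convert this using 1
      group)
    have k2 := mem_cent1.1 hc
    calc g * y * g⁻¹ = c⁻¹ * (c * g * y * (c * g)⁻¹) * c := by group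
      _ = c⁻¹ * (y * c) := by rw [k, mul_assoc]
      _ = y := by rw [← k2]; group
  refine absurd ⟨hy3, iso, lc, hz, fun H hyH hH => ?_, fun N _ h0 =>
    red_quot P y hyP hly N (ih _ (card_quot_lt N h0))⟩ (core G y)
  have h3 : orderOf (⟨y, hyH⟩ : H) = 3 := by rw [← orderOf_coe, hy3]
  obtain ⟨Q, hQ⟩ := ((pi3_zpowers h3).isPGroup NO6.pr3).exists_le_sylow
  have hQc : (Q : Subgroup H).map H.subtype ≤ 𝒞[y] :=
    le_normalizer.trans ((S2969.result (p := 3) y ⟨1, by rw [hy3]; rfl⟩ iso).1 _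
      (Q.isPGroup'.map _) ⟨⟨y, hyH⟩, hQ (mem_zpowers _), rfl⟩)
  refine ih H ((card_lt_of_lt (lt_top_iff_ne_top.2 hH)).trans_eq card_top) Q _ (hQ (mem_zpowers _)) fun R hR h0 g hg => ?_
  have k := lc (R.map H.subtype) ((Q.isPGroup'.to_le hR).map _)
    (fun e => h0 ((map_eq_bot_iff_of_injective _ H.subtype_injective).1 e))
    ((map_mono hR).trans hQc) (le_normalizer_map _ ⟨g, hg, rfl⟩)
  exact mem_cent1.2 (Subtype.ext (mem_cent1.1 k))

theorem reduce (core : ∀ (X : Type u) [Group X] [Finite X] (y : X), ¬ Cfg y) (P : Sylow 3 G) (x : G)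
    (hxP : x ∈ (P : Subgroup G))
    (hlc : ∀ R : Subgroup G, R ≤ (P : Subgroup G) → R ≠ ⊥ → 𝒩(R) ≤ 𝒞[x]) : InZStar 3 x := by
  have key : ∀ (n : ℕ) (H : Type u) [Group H] [Finite H], Nat.card H = n → RedSt H := by
    intro n
    induction n using Nat.strong_induction_on with
    | _ n ih =>
      intro H _ _ hn
      exact red_step core fun K _ _ hK => ih _ (hn ▸ hK) K rfl
  exact key _ G rfl P x hxP hlc

end Cfsg.Agent.Z3
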