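import Cfsg.Agent.Z3.BigA
import Cfsg.Agent.Z3.TwoCase
import Cfsg.Agent.S3225

/-! The case `|S : Q| ≥ 4` (port of NO6/BigCase) and the conclusion. -/

set_option autoImplicit false
set_option linter.unusedSectionVars false

namespace Cfsg.Agent.Z3

open Cfsg Cfsg.Agent.H49 Cfsg.Agent.NO6 Subgroup

universe u

variable {G : Type u} [Group G] [Finite G]

variable {Q S T B E : Subgroup G}

namespace Sw

variable (h : Sw Q S T B) (hE : Ed T S E) (hZ : Q ⊓ 𝒞(S) ≤ E)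
include h hE

omit hZ in
theorem idxE {e : G} (he : e ∈ E) (he' : e ∉ S) : S.relIndex E = 2 :=
  relIndex_eq_two_of he he' fun x hx => by
    by_cases hx' : x ∈ S
    exacts [Or.inl hx', Or.inr (inv_mul_mem_of_two h.idx (hE.le he) (hE.le hx) he' hx')]

omit hZ in
theorem centE {v z : G} (hv : v ∈ E) (hv' : v ∉ S) (hz : z ∈ Q ⊓ 𝒞(S)) (hc : v * z = z * v) :
    z ∈ 𝒞(E) := fun x hx => by
  by_cases hx' : x ∈ S
  · exact Big.cZ hz hx'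
  · have := Big.cZ hz (inv_mul_mem_of_two h.idx (hE.le hv) (hE.le hx) hv' hx')
    calc x * z = v * (v⁻¹ * x * z) := by group
      _ = v * z * (v⁻¹ * x) := by rw [this]; group
      _ = _ := by rw [hc]; group

include hZ

theorem meet {e g : G} (he : e ∈ E) (he' : e ∉ S) (hg : g ∈ 𝒩(E)) :
    (Q ⊓ 𝒞(S)) ⊓ cj g (Q ⊓ 𝒞(S)) ≠ ⊥ := fun h0 => by
  have f : ∀ v ∈ om E, v ∈ S → v ∈ Q ⊓ 𝒞(S) := fun v hv hv' =>
    h.fix hv' hv.2.2 (hE.le he) he' (hv.2.1 e he)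
  by_cases hV : om E ≤ S
  · have h1 : om E ≤ Q ⊓ 𝒞(S) := fun v hv => f v hv (hV hv)
    refine om_ne_bot (hE.two.to_le hE.le) (fun e0 => he' ?_) (eq_bot_iff.2 (h0 ▸ le_inf h1 ?_))
    · rw [e0, mem_bot] at he
      exact he ▸ one_mem S
    · exact (cj_eq_of_mem_norm (norm_om E hg)).ge.trans (cj_mono g h1)
  obtain ⟨v, hv, hv'⟩ := SetLike.not_le_iff_exists.1 hV
  have h1 : Q ⊓ 𝒞(S) ≤ om E := fun z hz =>
    ⟨hZ hz, h.centE hE hv.1 hv' hz (hv.2.1 z (hZ hz)).symm, h.sq z hz.1⟩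
  have h2 := cj_le_of_mem_norm h1 (norm_om E hg)
  have h3 := card_le_two_mul h.idx (h2.trans ((om_le E).trans hE.le)) (H := Q ⊓ 𝒞(S))
    fun s hs => f s (h2 hs.1) hs.2
  have h4 := h.four_Z
  rw [inf_comm (cj g _), h0, card_cj, card_bot] at h3
  omega

theorem normE {v s : G} (hv : v ∈ E) (hv' : v ∉ S) (hs : s ∈ S)
    (hc : v * s * v⁻¹ * s⁻¹ ∈ E) : s ∈ 𝒩(E) := by
  have k : ∀ x ∈ E, x ∈ S → s * x * s⁻¹ ∈ E := fun x hx hx' =>
    (mul_mem_cancel_right (inv_mem hx)).1 (hZ (h.commZ hs hx'))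
  refine mem_norm_of_cj_le fun y hy => ?_
  obtain ⟨x, hx, rfl⟩ := mem_cj'.1 hy
  by_cases hx' : x ∈ S
  · exact k x hx hx'
  · have := mul_mem (mul_mem (inv_mem hc) hv) (k _ (mul_mem (inv_mem hv) hx)
      (inv_mul_mem_of_two h.idx (hE.le hv) (hE.le hx) hv' hx'))
    convert this using 1
    group

theorem idx_four {v : G} (hv : v ∈ E) (hv' : v ∉ S) (h2 : v * v = 1)
    (hc : ∀ s ∈ E ⊓ S, v * s * v⁻¹ * s⁻¹ ∈ Q ⊓ 𝒞(S)) : 4 ≤ E.relIndex (T ⊓ 𝒩(E)) := by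
  obtain ⟨n, hn⟩ := (isPiNat_singleton pr2 (relIndex_pos E (T ⊓ 𝒩(E))).ne').1
    (((isPi_of_isPGroup pr2 hE.two).inf_left _).relIndex E)
  rcases n with _ | _ | n
  · exact (hE.lt.not_ge (relIndex_eq_one.1 hn)).elim
  swap
  · have := Nat.two_pow_pos n
    omega
  exfalso
  have vT := hE.le hv
  have cS : ∀ {a : G}, a ∈ Q → v * a * v⁻¹ ∈ S := fun ha => conj_mem_of_norm h.normS vT (h.le ha)
  have dS : ∀ {a : G}, a ∈ Q → v * a * v⁻¹ * a⁻¹ ∈ S := fun ha =>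
    mul_mem (cS ha) (inv_mem (h.le ha))
  have dZ : ∀ {a : G}, a ∈ Q → v * (v * a * v⁻¹ * a⁻¹) * v⁻¹ * (v * a * v⁻¹ * a⁻¹)⁻¹ ∈
      Q ⊓ 𝒞(S) := fun {a} ha => by
    have := h.sqZ (inv_mem (dS ha))
    have e : v * (v * a * v⁻¹ * a⁻¹) * v⁻¹ = (v * a * v⁻¹ * a⁻¹)⁻¹ := by
      calc _ = v * v * a * (v * v)⁻¹ * (v * a⁻¹ * v⁻¹) := by group
        _ = _ := by rw [h2]; group
    rwa [e]
  have dN : ∀ {a : G}, a ∈ Q → v * a * v⁻¹ * a⁻¹ ∈ T ⊓ 𝒩(E) := fun ha =>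
    ⟨h.le' (dS ha), h.normE hE hZ hv hv' (dS ha) (hZ (dZ ha))⟩
  have aN : ∀ {a : G}, a ∈ Q → v * a * v⁻¹ * a⁻¹ ∈ E → a ∈ T ⊓ 𝒩(E) := fun ha hd =>
    ⟨h.le' (h.le ha), h.normE hE hZ hv hv' (h.le ha) hd⟩
  have aE : ∀ {a : G}, a ∈ Q → a ∈ E → a ∈ Q ⊓ 𝒞(S) := fun ha haE =>
    h.memZ' ha vT hv' (hc _ ⟨haE, h.le ha⟩)
  have i3 : 3 ≤ (Q ⊓ 𝒞(S)).relIndex Q := by
    have := h.four_Z
    rw [h.relIndex_Z]
    omega
  obtain ⟨a, ha, ha', hd⟩ : ∃ a ∈ Q, a ∉ Q ⊓ 𝒞(S) ∧ v * a * v⁻¹ * a⁻¹ ∈ E := by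
    by_contra hk
    push Not at hk
    obtain ⟨a, ha, ha'⟩ := h.exists_nZ
    obtain ⟨b, hb, hb', hab⟩ := exists_third i3 ha
    refine hk _ (mul_mem ha hb) hab ?_
    have k1 := mul_mem_of_two hn (dN ha) (dN hb) (hk a ha ha') (hk b hb hb')
    convert mul_mem k1 (hZ (h.commZ (inv_mem (dS hb)) (h.le ha))) using 1
    group
  obtain ⟨b, hb, hb', hab⟩ := exists_third i3 ha
  by_cases hd' : v * b * v⁻¹ * b⁻¹ ∈ E
  · exact hab (aE (mul_mem ha hb) (mul_mem_of_two hn (aN ha hd) (aN hb hd')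
      (fun k => ha' (aE ha k)) fun k => hb' (aE hb k)))
  · have k1 := hc _ ⟨mul_mem_of_two hn (aN ha hd) (dN hb) (fun k => ha' (aE ha k)) hd',
      mul_mem (h.le ha) (dS hb)⟩
    have k2 := mul_mem k1 (inv_mem (conj_mem_of_norm h.normZ (h.le' (h.le ha)) (dZ hb)))
    refine ha' (h.memZ' ha vT hv' ?_)
    convert k2 using 1
    group

theorem false_of_le {e : G} (he : e ∈ E) (he' : e ∉ S) : False := by
  obtain ⟨r, hr, hr', hrS⟩ : ∃ r ∈ T ⊓ 𝒩(E), r ∉ E ∧ r ∈ S := by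
    obtain ⟨r, hr, hr'⟩ := SetLike.exists_of_lt hE.lt
    by_cases hrS : r ∈ S
    · exact ⟨r, hr, hr', hrS⟩
    · exact ⟨r * e, mul_mem hr (hE.lt.le he), fun k => hr' ((mul_mem_cancel_right he).1 k),
        mul_mem_of_two h.idx hr.1 (hE.le he) hrS he'⟩
  have fin : (∃ g ∈ 𝒩(E), ∃ w ∈ closure ({r, g * r * g⁻¹} : Set G), orderOf w = 3) → False :=
    fun ⟨g, hg, w, hw, h3⟩ => h.meet hE hZ he he' hg (h.kill hrS hw (ed_gd hE h.w6
      (ne_bot_iff_exists.2 ⟨e, he, fun k => he' (k ▸ one_mem _)⟩) hr hg hw h3))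
  have i2 := h.idxE hE he he'
  by_cases hc : ∀ g ∈ 𝒩(E), Q ⊓ 𝒞(S) ≤ cj g (E ⊓ S)
  · exact fin (hE.tv i2 hr hr' fun x hx g hg => hc g hg (h.commZ hrS hx.2))
  push Not at hc
  obtain ⟨g, hg, hc⟩ := hc
  obtain ⟨z, hz, hz'⟩ := SetLike.not_le_iff_exists.1 hc
  have hv : g⁻¹ * z * g⁻¹⁻¹ ∈ E := conj_mem_of_norm le_rfl (inv_mem hg) (hZ hz)
  have h2 := conj_sq (h.sq z hz.1) g⁻¹
  have hv' : g⁻¹ * z * g⁻¹⁻¹ ∉ S := fun k => hz' (mem_cj.2 (by rw [inv_inv] at hv k; exact ⟨hv, k⟩))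
  have c1 : ∀ s ∈ cj g⁻¹ S, g⁻¹ * z * g⁻¹⁻¹ * s = s * (g⁻¹ * z * g⁻¹⁻¹) := fun s hs => by
    obtain ⟨y, hy, rfl⟩ := mem_cj'.1 hs
    calc _ = g⁻¹ * (z * y) * g := by group
      _ = _ := by rw [← Big.cZ hz hy]; group
  have i1 : (cj g⁻¹ S).relIndex E = 2 := (relIndex_cj_of_norm S (inv_mem hg)).trans i2
  have c2 : Q ⊓ 𝒞(S) ≤ cj g⁻¹ S → g⁻¹ * z * g⁻¹⁻¹ ∈ 𝒞(E) := fun k =>
    conj_mem_of_norm (norm_cent le_rfl) (inv_mem hg) (h.centE hE hv hv' hz (c1 z (k hz)))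
  generalize g⁻¹ * z * g⁻¹⁻¹ = v at hv hv' h2 c1 c2
  have key : ∀ s ∈ E ⊓ S, v * s * v⁻¹ * s⁻¹ ∈ Q ⊓ 𝒞(S) := fun s hs => by
    by_cases k : Q ⊓ 𝒞(S) ≤ cj g⁻¹ S
    · rw [← c2 k s hs.1]; simp
    by_cases k1 : s ∈ cj g⁻¹ S
    · rw [c1 s k1]; simp
    obtain ⟨y, hy, hy'⟩ := SetLike.not_le_iff_exists.1 k
    have k2 := c1 _ (mul_mem_of_two i1 hs.1 (hZ hy) k1 hy')
    have k3 := conj_mem_of_norm h.normZ (h.le' hs.2)
      (mul_mem hy (conj_mem_of_norm h.normZ (hE.le hv) (inv_mem hy)))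
    convert k3 using 1
    calc _ = v * (s * y) * y⁻¹ * v⁻¹ * s⁻¹ := by group
      _ = _ := by rw [k2]; group
  refine fin (hE.se3 (fun x hx => ?_) (h.idx_four hE hZ hv hv' h2 key) r hr hr')
  by_cases hx' : x ∈ S
  · exact hZ (h.sqZ hx')
  · have k1 := inv_mul_mem_of_two h.idx (hE.le hv) hx.1 hv' hx'
    have k2 := mul_mem (mul_mem hv (conj_mem_of_norm le_rfl
      (mul_mem (inv_mem (le_normalizer hv)) hx.2) hv)) (hZ (h.sqZ k1))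
    convert k2 using 1
    group

end Sw

theorem Big.concl_eq [IsSimpleGroup G] (hG : ¬ IsMulCommutative G) (h : Big Q S)
    (hS : IsSylowOf 2 S ⊤) : Concl G := h.eq_case hG hS

theorem Big.concl_lt [IsSimpleGroup G] (hG : ¬ IsMulCommutative G) (h : Big Q S)
    (hT : IsSylowOf 2 T ⊤) (hS : S < T) : Concl G := by
  have two := hT.pi.isPGroup pr2
  obtain ⟨B, s⟩ := h.exists_sw two hS
  obtain ⟨x, ⟨hx, hx'⟩, hm⟩ := Set.exists_min_image {y : G | y ∈ T ∧ y ∉ S} orderOf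
    (Set.toFinite _) (SetLike.exists_of_lt hS)
  obtain ⟨n, hn⟩ := (isPiNat_singleton pr2 (orderOf_pos x).ne').1 (hT.pi.elt hx)
  have h1 : 1 ≤ n := Nat.pos_of_ne_zero fun e => hx' (by
    rw [e, pow_zero, orderOf_eq_one_iff] at hn
    exact hn ▸ one_mem S)
  obtain ⟨P, rfl⟩ := exists_sylow_of_top pr2 hT
  obtain ⟨g, hg⟩ := S3225.result (G := G) (by
      refine even_iff_two_dvd.2 (dvd_trans ?_ (orderOf_dvd_natCard x))
      rw [hn]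
      exact dvd_pow_self 2 (by omega)) (fun H hH => by
      rcases (normal_of_index_eq_two hH).eq_bot_or_eq_top with e | e
      · rw [e, index_bot] at hH
        haveI : Fact (Nat.Prime 2) := ⟨pr2⟩
        haveI := isCyclic_of_prime_card hH
        exact hG inferInstance
      · rw [e, index_top] at hH
        omega) P S hS.le s.idx n h1 (fun y hy hy' =>
      (Nat.pow_lt_pow_right one_lt_two (by omega)).trans_le (hn.ge.trans (hm y ⟨hy, hy'⟩)))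
    x hx hn
  obtain ⟨E, y, e, hE, -, he, he', -, -⟩ := fus_ind hT hS.le (s.nrm hS) hx hx' hg
  by_cases hZ : Q ⊓ 𝒞(S) ≤ E
  · exact (s.false_of_le hE hZ he he').elim
  obtain ⟨r, hr, hr1, hr2⟩ := exists_norm_step (h.two.to_le inf_le_left) (two.to_le hE.le)
    (hE.le.trans s.normZ) hZ
  obtain ⟨h4, -⟩ := ed_four hE h.w6 (s.idxE hE he he') ⟨hS.le (h.le hr.1), hr1⟩ hr2
    (cent_anti inf_le_right hr.2)
  exact four_case hT hE.le h4 hE.cen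

theorem two_local [IsSimpleGroup G] (hG : ¬ IsMulCommutative G) (h6 : W6 G) : Concl G := by
  by_cases hb : ∃ U : Subgroup G, Bad U
  · obtain ⟨Q, hQ, hmax⟩ := (wellFounded_gt (α := Subgroup G)).has_min {U | Bad U} hb
    obtain ⟨S, hS⟩ := exists_sylowOf 2 𝒩(Q)
    obtain ⟨T, hT, hle⟩ := exists_sylowOf_ge hS.pi (le_top : S ≤ ⊤)
    obtain ⟨h, k⟩ := loc_of_max h6 hQ
      (fun U hU hle => by_contra fun hn => hmax U hU (lt_of_le_not_ge hle hn)) hS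
    rcases k with k | k
    · exact h.concl_two hG k hT hle
    · rcases hle.eq_or_lt with e | e
      · exact k.concl_eq hG (e ▸ hT)
      · exact k.concl_lt hG hT e
  · exact Or.inl (sfour_free h6 (not_exists.1 hb))

end Cfsg.Agent.Z3
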